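import Mathlib.AlgebraicGeometry.Sites.Fpqc
import Mathlib.AlgebraicGeometry.Sites.Etale
import Mathlib.AlgebraicGeometry.Morphisms.UniversallyOpen
import Mathlib.AlgebraicGeometry.Morphisms.Etale

/-!
# Properties local on the source or target for the fppf or étale precoverage
-/

set_option autoImplicit false

universe u

open CategoryTheory Limits AlgebraicGeometry TopologicalSpace

namespace GrothLib.LocSrc

variable {Q : MorphismProperty Scheme.{u}} [Q.IsMultiplicative] [Q.IsStableUnderBaseChange]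
  (hopen : ∀ {A B : Scheme.{u}} (g : A ⟶ B), Q g → IsOpenMap g.base)
  (himm : ∀ {A B : Scheme.{u}} (g : A ⟶ B) [IsOpenImmersion g], Q g)

/-- The family consisting of `g` and the identity. -/
def pairX {A B : Scheme.{u}} (_g : A ⟶ B) : Bool → Scheme.{u} := fun b => cond b A B

/-- The family consisting of `g` and the identity. -/
def pairF {A B : Scheme.{u}} (g : A ⟶ B) : ∀ b, pairX g b ⟶ B
  | true => g
  | false => 𝟙 B

omit [Q.IsMultiplicative] [Q.IsStableUnderBaseChange] in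
include himm in
lemma pair_mem {A B : Scheme.{u}} (g : A ⟶ B) (hg : Q g) :
    Presieve.ofArrows (pairX g) (pairF g) ∈ Scheme.precoverage Q B := by
  rw [Scheme.ofArrows_mem_precoverage_iff]
  refine ⟨fun x ↦ ⟨false, x, rfl⟩, ?_⟩
  rintro (_ | _)
  · exact himm (𝟙 B)
  · exact hg

omit [Q.IsMultiplicative] in
/-- The corestriction of `g` to an open `V` containing its image. -/
lemma exists_corestrict {A B : Scheme.{u}} (g : A ⟶ B) (hg : Q g) (V : B.Opens)
    (h : Set.range g.base ⊆ (V : Set B)) :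
    ∃ g' : A ⟶ (V : Scheme.{u}), g' ≫ V.ι = g ∧ Q g' := by
  let g' := IsOpenImmersion.lift V.ι g (by rwa [Scheme.Opens.range_ι])
  have hw : g' ≫ V.ι = g := IsOpenImmersion.lift_fac _ _ _
  have sq : IsPullback (𝟙 A) g' g V.ι := IsPullback.of_horiz_isIso_mono ⟨by simp [hw]⟩
  exact ⟨g', hw, MorphismProperty.of_isPullback sq hg⟩

omit [Q.IsMultiplicative] [Q.IsStableUnderBaseChange] in
include himm in
lemma openFamily_mem {B : Scheme.{u}} {ι : Type u} (V : ι → B.Opens) (W : B.Opens) (hle : ∀ i, V i ≤ W)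
    (hW : W ≤ ⨆ i, V i) :
    Presieve.ofArrows (fun i => (V i : Scheme.{u})) (fun i => B.homOfLE (hle i)) ∈
      Scheme.precoverage Q (W : Scheme.{u}) := by
  rw [Scheme.ofArrows_mem_precoverage_iff]
  refine ⟨fun x ↦ ?_, fun i ↦ himm _⟩
  obtain ⟨i, hi⟩ := Opens.mem_iSup.1 (hW x.2)
  refine ⟨i, ⟨x.1, hi⟩, Subtype.ext ?_⟩
  exact Scheme.homOfLE_apply (hle i) _

/-- The image of an open subscheme, as an open. -/
def imageOpen {A B : Scheme.{u}} (g : A ⟶ B) (hg : Q g) (hopen : ∀ {A B : Scheme.{u}} (g : A ⟶ B), Q g → IsOpenMap g.base) :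
    B.Opens :=
  ⟨Set.range g.base, (hopen g hg).isOpen_range⟩

section source

variable (P : MorphismProperty Scheme.{u}) [P.IsLocalAtSource (Scheme.precoverage Q)]

omit [Q.IsMultiplicative] [Q.IsStableUnderBaseChange] in
include himm in
lemma comp_of_Q {A B Y : Scheme.{u}} (g : A ⟶ B) (hg : Q g) (f : B ⟶ Y) (hf : P f) : P (g ≫ f) :=
  MorphismProperty.IsLocalAtSource.comp (pair_mem himm g hg) (pairF g true) ⟨true⟩ hf

include hopen himm in
theorem exists_largest_source {X Y : Scheme.{u}} (f : X ⟶ Y) :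
    ∃ W : X.Opens, (P (W.ι ≫ f) ∧ ∀ W' : X.Opens, P (W'.ι ≫ f) → W' ≤ W) ∧
      ∀ (X' : Scheme.{u}) (g : X' ⟶ X), Q g → ∀ (V : X'.Opens),
        (P (V.ι ≫ g ≫ f) ∧ ∀ V' : X'.Opens, P (V'.ι ≫ g ≫ f) → V' ≤ V) → V = g ⁻¹ᵁ W := by
  let W : X.Opens := ⨆ W' : {W' : X.Opens // P (W'.ι ≫ f)}, W'.1
  have hmax : ∀ W' : X.Opens, P (W'.ι ≫ f) → W' ≤ W := fun W' h =>
    le_iSup (fun W' : {W' : X.Opens // P (W'.ι ≫ f)} => W'.1) ⟨W', h⟩
  have hW : P (W.ι ≫ f) := by
    refine MorphismProperty.IsLocalAtSource.of_forall_comp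
      (openFamily_mem (Q := Q) himm (fun W' : {W' : X.Opens // P (W'.ι ≫ f)} => W'.1) W
        (fun W' => hmax _ W'.2) le_rfl) ?_
    rintro _ _ ⟨W'⟩
    rw [Scheme.homOfLE_ι_assoc]
    exact W'.2
  refine ⟨W, ⟨hW, hmax⟩, fun X' g hg V ⟨hV, hVmax⟩ => le_antisymm ?_ (hVmax _ ?_)⟩
  · have hVg : Q (V.ι ≫ g) := MorphismProperty.comp_mem _ _ _ (himm _) hg
    let O := imageOpen (V.ι ≫ g) hVg hopen
    obtain ⟨g', hg', hQ'⟩ := exists_corestrict (Q := Q) (V.ι ≫ g) hVg O subset_rfl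
    have hmem : Presieve.ofArrows (fun _ : PUnit.{u+1} => (V : Scheme.{u})) (fun _ => g') ∈
        Scheme.precoverage Q (O : Scheme.{u}) := by
      rw [Scheme.ofArrows_mem_precoverage_iff]
      refine ⟨fun o => ?_, fun _ => hQ'⟩
      obtain ⟨v, hv⟩ := o.2
      exact ⟨⟨⟩, v, Subtype.ext (by rw [← hv, ← hg']; rfl)⟩
    have hO : P (O.ι ≫ f) := by
      refine MorphismProperty.IsLocalAtSource.of_forall_comp hmem ?_
      rintro _ _ ⟨⟩
      rwa [← Category.assoc, hg', Category.assoc]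
    intro v hv
    exact hmax O hO ⟨⟨v, hv⟩, rfl⟩
  · rw [← morphismRestrict_ι_assoc]
    exact comp_of_Q himm P _ (MorphismProperty.of_isPullback (isPullback_morphismRestrict g W).flip hg) _ hW

end source

section iso

variable (P : MorphismProperty Scheme.{u}) [P.RespectsIso]

lemma snd_iff {X Y T Z : Scheme.{u}} {fst : Z ⟶ X} {snd : Z ⟶ T} {f : X ⟶ Y} {a : T ⟶ Y}
    (h : IsPullback fst snd f a) : P snd ↔ P (pullback.snd f a) := by
  rw [← h.isoPullback_hom_snd, P.cancel_left_of_respectsIso]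

lemma snd_snd_iff {X Y T T' : Scheme.{u}} (f : X ⟶ Y) (a : T ⟶ Y) (b : T' ⟶ T) :
    P (pullback.snd (pullback.snd f a) b) ↔ P (pullback.snd f (b ≫ a)) :=
  snd_iff P
    ((IsPullback.of_hasPullback (pullback.snd f a) b).paste_horiz (IsPullback.of_hasPullback f a))

lemma restrict_iff {X Y : Scheme.{u}} (f : X ⟶ Y) (V : Y.Opens) :
    P (f ∣_ V) ↔ P (pullback.snd f V.ι) :=
  snd_iff P (isPullback_morphismRestrict f V).flip

lemma restrict_snd_iff {X Y T : Scheme.{u}} (f : X ⟶ Y) (a : T ⟶ Y) (U : T.Opens) :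
    P (pullback.snd f a ∣_ U) ↔ P (pullback.snd f (U.ι ≫ a)) :=
  (restrict_iff P _ U).trans (snd_snd_iff P f a U.ι)

end iso

section target

variable (P : MorphismProperty Scheme.{u}) [P.IsLocalAtTarget (Scheme.precoverage Q)]

omit [Q.IsMultiplicative] [Q.IsStableUnderBaseChange] in
include himm in
lemma pull_of_Q {X Y T T' : Scheme.{u}} (f : X ⟶ Y) (a : T ⟶ Y) (b : T' ⟶ T) (hb : Q b)
    (h : P (pullback.snd f a)) : P (pullback.snd f (b ≫ a)) := by
  rw [← snd_snd_iff P]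
  exact MorphismProperty.IsLocalAtTarget.pullbackSnd (g := pairF b true) (pair_mem himm b hb) ⟨true⟩ h

omit [Q.IsMultiplicative] [Q.IsStableUnderBaseChange] in
lemma of_family {X Y T : Scheme.{u}} (f : X ⟶ Y) (a : T ⟶ Y) {ι : Type u} {U : ι → Scheme.{u}}
    (b : ∀ i, U i ⟶ T) (hb : Presieve.ofArrows U b ∈ Scheme.precoverage Q T)
    (h : ∀ i, P (pullback.snd f (b i ≫ a))) : P (pullback.snd f a) := by
  refine MorphismProperty.IsLocalAtTarget.of_forall_pullbackSnd hb ?_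
  rintro _ _ _ ⟨i⟩
  exact (snd_snd_iff P f a (b i)).2 (h i)

include hopen himm in
theorem exists_largest_target {X Y : Scheme.{u}} (f : X ⟶ Y) :
    ∃ W : Y.Opens, P (f ∣_ W) ∧ (∀ W₀ : Y.Opens, P (f ∣_ W₀) → W₀ ≤ W) ∧
      (∀ (Y' : Scheme.{u}) (g : Y' ⟶ Y), Q g →
        P (pullback.snd f g) → Set.range g.base ⊆ (W : Set Y)) ∧
      (∀ (Y' : Scheme.{u}) (g : Y' ⟶ Y), Q g →
        ∀ W' : Y'.Opens, P (pullback.snd f g ∣_ W') →
          (∀ W₀ : Y'.Opens, P (pullback.snd f g ∣_ W₀) → W₀ ≤ W') → W' = g ⁻¹ᵁ W) := by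
  let W : Y.Opens := ⨆ W' : {W' : Y.Opens // P (f ∣_ W')}, W'.1
  have hmax : ∀ W' : Y.Opens, P (f ∣_ W') → W' ≤ W := fun W' h =>
    le_iSup (fun W' : {W' : Y.Opens // P (f ∣_ W')} => W'.1) ⟨W', h⟩
  have hW : P (f ∣_ W) := by
    rw [restrict_iff P]
    refine of_family (Q := Q) P f W.ι _
      (openFamily_mem himm (fun W' : {W' : Y.Opens // P (f ∣_ W')} => W'.1) W
        (fun W' => hmax _ W'.2) le_rfl) fun W' => ?_
    rw [Scheme.homOfLE_ι, ← restrict_iff P]
    exact W'.2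
  have himage : ∀ (Y' : Scheme.{u}) (g : Y' ⟶ Y), Q g →
      P (pullback.snd f g) → Set.range g.base ⊆ (W : Set Y) := by
    intro Y' g hg h
    let O := imageOpen g hg hopen
    obtain ⟨g', hg', hQ'⟩ := exists_corestrict (Q := Q) g hg O subset_rfl
    have hmem : Presieve.ofArrows (fun _ : PUnit.{u+1} => Y') (fun _ => g') ∈
        Scheme.precoverage Q (O : Scheme.{u}) := by
      rw [Scheme.ofArrows_mem_precoverage_iff]
      refine ⟨fun o => ?_, fun _ => hQ'⟩
      obtain ⟨v, hv⟩ := o.2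
      exact ⟨⟨⟩, v, Subtype.ext (by rw [← hv, ← hg']; rfl)⟩
    refine hmax O ((restrict_iff P f O).2 (of_family (Q := Q) P f O.ι _ hmem fun _ => ?_))
    rwa [hg']
  refine ⟨W, hW, hmax, himage, fun Y' g hg W' hW' hW'max => le_antisymm ?_ (hW'max _ ?_)⟩
  · intro y hy
    have := himage _ (W'.ι ≫ g) (MorphismProperty.comp_mem _ _ _ (himm _) hg)
      ((restrict_snd_iff P f g W').1 hW')
    exact this ⟨⟨y, hy⟩, rfl⟩
  · rw [restrict_snd_iff P, ← morphismRestrict_ι]
    exact pull_of_Q himm P f W.ι _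
      (MorphismProperty.of_isPullback (isPullback_morphismRestrict g W).flip hg)
      ((restrict_iff P f W).1 hW)

end target

section instances

lemma fppf_hopen {A B : Scheme.{u}} (g : A ⟶ B)
    (h : (@Flat ⊓ @LocallyOfFinitePresentation : MorphismProperty Scheme.{u}) g) :
    IsOpenMap g.base :=
  have := h.1
  have := h.2
  g.isOpenMap

lemma fppf_himm {A B : Scheme.{u}} (g : A ⟶ B) [IsOpenImmersion g] :
    (@Flat ⊓ @LocallyOfFinitePresentation : MorphismProperty Scheme.{u}) g :=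
  ⟨inferInstance, inferInstance⟩

end instances

end GrothLib.LocSrc
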